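import Groth.Agent.Lib.PicFppf.RelPic
import Groth.Agent.H2.Rigid.PushFlat

/-!
# Base change of a representing object of the fppf relative Picard functor
-/

set_option autoImplicit false
set_option linter.style.haveILetI false
universe u
open CategoryTheory CategoryTheory.Limits AlgebraicGeometry

noncomputable section

namespace Groth.Agent.H54.PicCurve.Base

variable {X S S' : Scheme.{u}} (f : X ⟶ S) (g : S' ⟶ S)

/-- The base change of an `S'`-scheme to `S`. -/
abbrev toS (T : Over S') : Over S := (Over.map g).obj T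

/-- `(X ×_S S') ×_{S'} T = X ×_S T`. -/
def j (T : Over S') : PicF.XT (pullback.snd f g) T ≅ PicF.XT f (toS g T) :=
  pullbackLeftPullbackSndIso f g T.hom

@[reassoc (attr := simp)]
theorem j_hom_fst (T : Over S') : (j f g T).hom ≫ pullback.fst f (T.hom ≫ g) =
    pullback.fst (pullback.snd f g) T.hom ≫ pullback.fst f g :=
  pullbackLeftPullbackSndIso_hom_fst f g T.hom

@[reassoc (attr := simp)]
theorem j_hom_snd (T : Over S') : (j f g T).hom ≫ pullback.snd f (T.hom ≫ g) =
    pullback.snd (pullback.snd f g) T.hom :=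
  pullbackLeftPullbackSndIso_hom_snd f g T.hom

theorem XTmap_j {T T' : Over S'} (h : T' ⟶ T) :
    PicF.XTmap (pullback.snd f g) h ≫ (j f g T).hom = (j f g T').hom ≫ PicF.XTmap f ((Over.map g).map h) := by
  apply pullback.hom_ext
  · show (PicF.XTmap (pullback.snd f g) h ≫ (j f g T).hom) ≫ pullback.fst f (T.hom ≫ g) =
      ((j f g T').hom ≫ PicF.XTmap f ((Over.map g).map h)) ≫ pullback.fst f (T.hom ≫ g)
    simp [PicF.XTmap, pullback.map, pullback.lift_fst, pullback.lift_fst_assoc, pullback.lift_snd, pullback.lift_snd_assoc]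
  · show (PicF.XTmap (pullback.snd f g) h ≫ (j f g T).hom) ≫ pullback.snd f (T.hom ≫ g) =
      ((j f g T').hom ≫ PicF.XTmap f ((Over.map g).map h)) ≫ pullback.snd f (T.hom ≫ g)
    simp [PicF.XTmap, pullback.map, pullback.lift_fst, pullback.lift_fst_assoc, pullback.lift_snd, pullback.lift_snd_assoc]

theorem XTmap_comp {T T' T'' : Over S} (a : T'' ⟶ T') (b : T' ⟶ T) :
    PicF.XTmap f (a ≫ b) = PicF.XTmap f a ≫ PicF.XTmap f b := by
  apply pullback.hom_ext <;>
    simp [PicF.XTmap, pullback.map, pullback.lift_fst, pullback.lift_fst_assoc, pullback.lift_snd, pullback.lift_snd_assoc]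

theorem j_inv_XTmap {T T' : Over S'} (h : T' ⟶ T) :
    (j f g T').inv ≫ PicF.XTmap (pullback.snd f g) h = PicF.XTmap f ((Over.map g).map h) ≫ (j f g T).inv := by
  rw [Iso.inv_comp_eq, ← Category.assoc, ← XTmap_j, Category.assoc, Iso.hom_inv_id, Category.comp_id]

theorem isInvertibleCl_pull {Y' Y : Scheme.{u}} (m : Y' ⟶ Y) {c : PicF.Cl Y} (hc : PicF.IsInvertibleCl c) :
    PicF.IsInvertibleCl (PicF.pullCl m c) :=
  (Groth.Agent.Lib.PicFppf.Classes.pc m ⟨c, hc⟩).2

variable (P : Over S) (φ : ∀ T : Over S, PicF.Cl (PicF.XT f T) → (T ⟶ P))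

/-- The base change of the family of maps. -/
def φ' (T : Over S') (c : PicF.Cl (PicF.XT (pullback.snd f g) T)) : T ⟶ (Over.pullback g).obj P :=
  Over.homMk (pullback.lift (φ (toS g T) (PicF.pullCl (j f g T).inv c)).left T.hom
    (Over.w (φ (toS g T) (PicF.pullCl (j f g T).inv c))))
    (pullback.lift_snd _ _ _)

theorem φ'_fst (T : Over S') (c : PicF.Cl (PicF.XT (pullback.snd f g) T)) :
    (φ' f g P φ T c).left ≫ pullback.fst P.hom g = (φ (toS g T) (PicF.pullCl (j f g T).inv c)).left :=
  pullback.lift_fst _ _ _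

theorem hom_ext {T : Over S'} {a b : T ⟶ (Over.pullback g).obj P}
    (h : a.left ≫ pullback.fst P.hom g = b.left ≫ pullback.fst P.hom g) : a = b := by
  ext1
  exact pullback.hom_ext h ((Over.w a).trans (Over.w b).symm)

variable {P φ}

theorem isRelPicK (hP : AbDual.IsRelPicK Scheme.fppfPrecoverage f P φ) :
    AbDual.IsRelPicK Scheme.fppfPrecoverage (pullback.snd f g) ((Over.pullback g).obj P) (φ' f g P φ) where
  natural T T' h c hc := by
    refine hom_ext g P ?_
    have e : PicF.pullCl (j f g T').inv (PicF.pullCl (PicF.XTmap (pullback.snd f g) h) c) =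
        PicF.pullCl (PicF.XTmap f ((Over.map g).map h)) (PicF.pullCl (j f g T).inv c) := by
      rw [← PicLoc.pullCl_comp, ← PicLoc.pullCl_comp, j_inv_XTmap]
    rw [φ'_fst, e, hP.natural _ _ _ _ (isInvertibleCl_pull _ hc), Over.comp_left, Over.comp_left,
      Category.assoc, φ'_fst]
    rfl
  locallySurjective T a := by
    let a₀ : toS g T ⟶ P := Over.homMk (a.left ≫ pullback.fst P.hom g) (by
      show (a.left ≫ pullback.fst P.hom g) ≫ P.hom = T.hom ≫ g
      rw [Category.assoc, pullback.condition, ← Category.assoc]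
      exact congrArg (· ≫ g) (Over.w a))
    obtain ⟨R, hR, hloc⟩ := hP.locallySurjective (toS g T) a₀
    refine ⟨R, hR, fun U w hw => ?_⟩
    obtain ⟨c₀, hc₀, hc₀a⟩ := hloc w hw
    let m : toS g (AbDual.ovr T w) ⟶ AbDual.ovr (toS g T) w :=
      Over.homMk (𝟙 U) ((Category.id_comp _).trans (Category.assoc _ _ _).symm)
    refine ⟨PicF.pullCl ((j f g (AbDual.ovr T w)).hom ≫ PicF.XTmap f m) c₀, isInvertibleCl_pull _ hc₀,
      hom_ext g P ?_⟩
    rw [φ'_fst, ← PicLoc.pullCl_comp, Iso.inv_hom_id_assoc, hP.natural _ _ m _ hc₀, hc₀a]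
    show 𝟙 U ≫ w ≫ a.left ≫ pullback.fst P.hom g = (w ≫ a.left) ≫ pullback.fst P.hom g
    rw [Category.id_comp, Category.assoc]
  locallyInjective T c c' hc hc' h := by
    have h₀ : φ (toS g T) (PicF.pullCl (j f g T).inv c) = φ (toS g T) (PicF.pullCl (j f g T).inv c') :=
      Over.OverMorphism.ext (by rw [← φ'_fst, ← φ'_fst, h])
    obtain ⟨R, hR, hloc⟩ := hP.locallyInjective _ _ _ (isInvertibleCl_pull _ hc) (isInvertibleCl_pull _ hc') h₀
    refine ⟨R, hR, fun U w hw => ?_⟩
    let m : toS g (AbDual.ovr T w) ⟶ AbDual.ovr (toS g T) w :=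
      Over.homMk (𝟙 U) ((Category.id_comp _).trans (Category.assoc _ _ _).symm)
    have hm : (Over.map g).map (AbDual.ovrHom T w) = m ≫ AbDual.ovrHom (toS g T) w :=
      Over.OverMorphism.ext (Category.id_comp _).symm
    have e : PicF.XTmap (pullback.snd f g) (AbDual.ovrHom T w) =
        ((j f g (AbDual.ovr T w)).hom ≫ PicF.XTmap f m) ≫ PicF.XTmap f (AbDual.ovrHom (toS g T) w) ≫
          (j f g T).inv := by
      rw [← cancel_epi (j f g (AbDual.ovr T w)).inv, j_inv_XTmap, hm, Category.assoc, Iso.inv_hom_id_assoc,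
        ← Category.assoc (PicF.XTmap f m), XTmap_comp]
    rw [e]
    simp only [PicLoc.pullCl_comp]
    have := hloc w hw
    rw [this]

/-- Only constant functions, universally. -/
theorem isIso_app [IsProper f] [Flat f] [LocallyOfFinitePresentation f] [GeometricallyReduced f]
    [GeometricallyConnected f] (T : Over S') (U : T.left.Opens) :
    IsIso ((PicF.XTproj (pullback.snd f g) T).app U) := by
  haveI : Surjective (PicF.XTproj (pullback.snd f g) T) := inferInstance
  exact (ConcreteCategory.isIso_iff_bijective _).2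
    (Groth.Agent.H2.Rigid.PushFlat.push_of_flat_fp (PicF.XTproj (pullback.snd f g) T)
      (Groth.Agent.H2.Rigid.H0.of_geometrically _) U)

end Groth.Agent.H54.PicCurve.Base
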