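import Groth.Agent.Lib.Exchange.PicLift.Lift
import Groth.Agent.H95.Torsor.Iso
import Groth.Agent.Lib.FibreVanish36.Coherent
import Groth.Agent.Lib.FibreVanish36.Affine
import Groth.Agent.Lib.Ample.QAffCrit
import Groth.Agent.Lib.GrpSch.SmoothCrit

/-!
# Invertible modules lift through square-zero thickenings of a family of curves
-/

set_option autoImplicit false
set_option linter.style.haveILetI false
universe u
open CategoryTheory CategoryTheory.Limits AlgebraicGeometry

namespace Groth.Agent.H54.PicCurve.Lift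

open Groth.Agent

/-- Lifting of invertible modules through a square-zero extension of an affine base, for a proper
morphism with fibres of dimension at most one. -/
theorem exists_lift {A : CommRingCat.{u}} (I : Ideal A) (hI : I ^ 2 = ⊥) {X Z : Scheme.{u}}
    (p : X ⟶ Spec A) [IsProper p] (hd : ∀ y, topologicalKrullDim ↥(p.fiber y) ≤ 1)
    (i : Z ⟶ X) (q : Z ⟶ Spec (CommRingCat.of (A ⧸ I)))
    (hcart : IsPullback i q p (Spec.map (CommRingCat.ofHom (Ideal.Quotient.mk I))))
    {L₀ : Z.Modules} (hL₀ : PicF.IsInvertible L₀) :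
    ∃ L : X.Modules, PicF.IsInvertible L ∧ Nonempty ((Scheme.Modules.pullback i).obj L ≅ L₀) := by
  let φ : A ⟶ CommRingCat.of (A ⧸ I) := CommRingCat.ofHom (Ideal.Quotient.mk I)
  have hφ : Function.Surjective φ := Ideal.Quotient.mk_surjective
  have hc := H95.Torsor.cuts_of_isPullback φ hφ hcart
  haveI := hc.closed
  haveI : Surjective (Spec.map φ) := ⟨Lib.GrpSch.surjective_specMap_mk I hI⟩
  haveI : Surjective i := MorphismProperty.of_isPullback (P := @Surjective) hcart.flip ‹_›
  let J : X.IdealSheafData := i.ker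
  have hJ : J * J = ⊥ := by
    refine Scheme.IdealSheafData.ext (funext fun V => ?_)
    rw [Scheme.IdealSheafData.ideal_mul, Scheme.IdealSheafData.ideal_bot]
    show J.ideal V * J.ideal V = ⊥
    rw [show J.ideal V = RingHom.ker (i.app V.1).hom from Scheme.Hom.ker_apply i V, hc.ker,
      ← Ideal.map_mul, show RingHom.ker φ.hom = I from Ideal.mk_ker, ← pow_two, hI, Ideal.map_bot]
  haveI : IsSeparated p := inferInstance
  haveI : X.IsSeparated := ⟨by
    haveI : IsSeparated (p ≫ terminal.from (Spec A)) := inferInstance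
    rwa [terminal.comp_from] at this⟩
  haveI : J.subscheme.IsSeparated := ⟨by
    haveI : IsSeparated (J.subschemeι ≫ terminal.from X) := inferInstance
    rwa [terminal.comp_from] at this⟩
  let e : Z ⟶ J.subscheme := i.toImage
  have he : e ≫ J.subschemeι = i := i.toImage_imageι
  haveI : IsIso e := inferInstance
  haveI : Surjective J.subschemeι := by
    haveI : Surjective (e ≫ J.subschemeι) := by rw [he]; infer_instance
    exact Surjective.of_comp e J.subschemeι
  have hH : Subsingleton (CohTop.H (Coh.toAb (ClSub.idealMod J)) 2) := by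
    haveI := Lib.Ample.QAffCrit.isQCoh_idealMod J
    exact Lib.FibreVanish36.Affine.subsingleton_HH Lib.FibreVanish36.Coherent.cohVanish p 1 hd
      (ClSub.idealMod J) 1 le_rfl
  obtain ⟨L, hL, ⟨eL⟩⟩ := Lib.Exchange.PicLift.exists_lift J.subschemeι (𝟙 _)
    (H95.Torsor.subsingleton_H_K_of_ideal J hJ 2 hH) (PicLoc.isInvertible_pullback (inv e) hL₀)
  exact ⟨L, hL, ⟨(Scheme.Modules.pullbackCongr he.symm).app L ≪≫
    ((Scheme.Modules.pullbackComp e J.subschemeι).app L).symm ≪≫
    (Scheme.Modules.pullback e).mapIso eL ≪≫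
    (Scheme.Modules.pullbackComp e (inv e)).app L₀ ≪≫
    (Scheme.Modules.pullbackCongr (IsIso.hom_inv_id e)).app L₀ ≪≫
    (Scheme.Modules.pullbackId Z).app L₀⟩⟩

end Groth.Agent.H54.PicCurve.Lift
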