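import Groth.Agent.H54.PicCurve.Base
import Groth.Agent.H54.PicCurve.Lift
import Groth.Agent.H2.Rigid.SmoothDense
import Groth.Agent.H75.BaseChange.Nhd
import Groth.Agent.Lib.SmoothDesc.Scheme
import Groth.Agent.Lib.EtaleSection.Sections
import Groth.Agent.H56.DimBaseChange

/-!
# The Picard scheme of a family of curves is smooth
-/

set_option autoImplicit false
set_option linter.style.haveILetI false
universe u
open CategoryTheory CategoryTheory.Limits AlgebraicGeometry

noncomputable section

namespace Groth.Agent.H54.PicCurve.Main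

open Groth.Agent

variable {C S : Scheme.{u}} (f : C ⟶ S)

theorem isPullback_XTmap {T T' : Over S} (g : T' ⟶ T) :
    IsPullback (PicF.XTmap f g) (PicF.XTproj f T') (PicF.XTproj f T) g.left := by
  refine IsPullback.of_right ?_ (pullback.lift_snd _ _ _) (IsPullback.of_hasPullback f T.hom)
  rw [Over.w g]
  convert IsPullback.of_hasPullback f T'.hom using 1
  exact (pullback.lift_fst _ _ _).trans (Category.comp_id _)

theorem dim_le {Y' X' : Scheme.{u}} [IsProper f] (hd : ∀ s, topologicalKrullDim ↥(f.fiber s) ≤ 1)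
    (g : Y' ⟶ S) (f' : X' ⟶ Y') (g' : X' ⟶ C) (hc : IsPullback g' f' f g) (y : Y') :
    topologicalKrullDim ↥(f'.fiber y) ≤ 1 := by
  have := MorphismProperty.of_isPullback (P := @LocallyOfFiniteType)
    (IsPullback.of_hasPullback f (S.fromSpecResidueField (g y))) inferInstance
  have : LocallyOfFiniteType (f.fiberToSpecResidueField (g y)) := this
  exact le_of_eq_of_le (@H56.DimBaseChange.topologicalKrullDim_baseChange _ _ _ _ _ _ _ _ _ _
    (isPullback_fiberToSpecResidueField_of_isPullback hc y) this) (hd _)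

variable [IsProper f] [Flat f] [LocallyOfFinitePresentation f] [GeometricallyReduced f]
  [GeometricallyConnected f]

/-- Sections exist étale locally on the base. -/
theorem exists_section : ∃ (S' : Scheme.{u}) (g : S' ⟶ S) (s : S' ⟶ C),
    Etale g ∧ Surjective g ∧ s ≫ f = g := by
  haveI hsm : Smooth (f.smoothLocus.ι ≫ f) := by
    rw [← Scheme.Hom.smoothLocus_eq_top_iff, ← Scheme.Hom.preimage_smoothLocus_eq]
    ext x; simp
  haveI : Surjective f := inferInstance
  haveI : Surjective (f.smoothLocus.ι ≫ f) := ⟨fun y => by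
    let F := f.fiber y
    letI : F.Over (Spec (CommRingCat.of (S.residueField y))) := ⟨f.fiberToSpecResidueField y⟩
    haveI : LocallyOfFinitePresentation (F ↘ Spec (CommRingCat.of (S.residueField y))) :=
      inferInstanceAs (LocallyOfFinitePresentation (pullback.snd f (S.fromSpecResidueField y)))
    haveI hgr : GeometricallyReduced (F ↘ Spec (CommRingCat.of (S.residueField y))) :=
      inferInstanceAs (GeometricallyReduced (pullback.snd f (S.fromSpecResidueField y)))
    haveI : IsReduced F :=
      GeometricallyReduced.geometrically_isReduced (f := f) (S.fromSpecResidueField y) _ _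
        (IsPullback.of_hasPullback f (S.fromSpecResidueField y))
    obtain ⟨x, hx⟩ := f.surjective y
    haveI : Nonempty F := ⟨(f.fiberHomeo y).symm ⟨x, hx⟩⟩
    obtain ⟨w, hw⟩ := (H2.Rigid.SmoothDense.dense_smoothLocus (S.residueField y) F).nonempty
    have hw' := (H75.BaseChange.mem_smoothLocus_snd_iff f (S.fromSpecResidueField y) w
      (Or.inl (Flat.stalkMap f _))).1 hw
    have h : f.fiberι y w ∈ f ⁻¹' ({y} : Set S) := f.range_fiberι y ▸ Set.mem_range_self w
    exact ⟨⟨_, hw'⟩, h⟩⟩
  obtain ⟨S', g, h, hg, hgs, hh⟩ :=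
    Lib.EtaleSection.Sections.exists_etale_surjective_section (f.smoothLocus.ι ≫ f)
  exact ⟨S', g, h ≫ f.smoothLocus.ι, hg, hgs, (Category.assoc _ _ _).trans hh⟩

/-- **Smoothness** of the Picard scheme of a family of curves. -/
theorem smooth (hd : ∀ s, topologicalKrullDim ↥(f.fiber s) ≤ 1) (P : Over S)
    (φ : ∀ T : Over S, PicF.Cl (PicF.XT f T) → (T ⟶ P))
    (hP : AbDual.IsRelPicK Scheme.fppfPrecoverage f P φ) [LocallyOfFinitePresentation P.hom] :
    Smooth P.hom := by
  obtain ⟨S', g, s, hg, hgs, hs⟩ := exists_section f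
  haveI := hg
  haveI := hgs
  let f' := pullback.snd f g
  let σ : S' ⟶ pullback f g := pullback.lift s (𝟙 S') (by rw [hs, Category.id_comp])
  have hσ : σ ≫ f' = 𝟙 S' := pullback.lift_snd _ _ _
  have hd' : ∀ s', topologicalKrullDim ↥(f'.fiber s') ≤ 1 :=
    dim_le f hd g f' (pullback.fst f g) (IsPullback.of_hasPullback f g)
  have ha := Base.isIso_app f g
  have hP' := Base.isRelPicK f g hP
  let q : pullback P.hom g ⟶ S' := pullback.snd P.hom g
  haveI : Smooth q := by
    refine Lib.GrpSch.smooth_of_liftings q fun A I hI t c₀ hc₀ => ?_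
    let T : Over S' := Over.mk t
    let mk := Spec.map (CommRingCat.ofHom (Ideal.Quotient.mk I))
    let T₀ : Over S' := Over.mk (mk ≫ t)
    let ih : T₀ ⟶ T := Over.homMk mk rfl
    let a : T₀ ⟶ (Over.pullback g).obj P := Over.homMk c₀ hc₀
    obtain ⟨d, -, hd₀⟩ := Lib.PicFppf.RelPic.surjective f' σ hσ ha hP' T₀ a
    obtain ⟨L₀, hL₀, rfl⟩ := PicGrp.exists_eq_cls d
    obtain ⟨L, hL, ⟨e⟩⟩ := Lift.exists_lift I hI (PicF.XTproj f' T)
      (dim_le f' hd' t _ _ (IsPullback.of_hasPullback f' t)) (PicF.XTmap f' ih) (PicF.XTproj f' T₀)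
      (isPullback_XTmap f' ih) hL₀
    refine ⟨(Base.φ' f g P φ T (PicF.cl L)).left, Over.w (Base.φ' f g P φ T (PicF.cl L)), ?_⟩
    have h := hP'.natural T T₀ ih (PicF.cl L) ⟨L, rfl, hL⟩
    rw [show PicF.pullCl (PicF.XTmap f' ih) (PicF.cl L) = PicF.cl L₀ from Quot.sound ⟨e⟩] at h
    exact (congrArg CommaMorphism.left (h.symm.trans hd₀) :)
  haveI : Smooth (pullback.fst P.hom g ≫ P.hom) := by
    rw [pullback.condition]
    exact MorphismProperty.comp_mem _ q g inferInstance inferInstance
  exact Lib.SmoothDesc.Scheme.smooth_of_comp (pullback.fst P.hom g) P.hom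

end Groth.Agent.H54.PicCurve.Main
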